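import Cfsg.Prelude.Def_Spor_J1
import Cfsg.Agent.Lib.Cert.J1.M
import Cfsg.Agent.Lib.Cert.Lin6

set_option autoImplicit false
set_option maxRecDepth 100000

namespace Cfsg.Agent.Ct.J1

open Cfsg.Agent.PC

open Cfsg.Agent.Fi Cfsg.Agent.Ct
def Ct1 : TN := (TN.node (TN.node (TN.node (TN.node (TN.leaf (nat_lit 0x30000000a0000000200000001000000080000000a00000008)) (TN.leaf (nat_lit 0x1000000000000000000000000))) (TN.node (TN.leaf (nat_lit 0x600000006000000050000000900000009000000040000000a)) (TN.leaf (nat_lit 1)))) (TN.node (TN.node (TN.leaf (nat_lit 0x5000000040000000400000002000000040000000500000008)) (TN.leaf (nat_lit 0x3000000010000000a0000000200000008000000030000000a))) (TN.leaf (nat_lit 0x3000000030000000a00000009000000050000000500000007)))) (TN.node (TN.node (TN.node (TN.leaf (nat_lit 0x5000000040000000100000005000000030000000300000002)) (TN.leaf (nat_lit 0x3000000030000000a000000080000000a0000000100000002))) (TN.node (TN.leaf (nat_lit 0x5000000040000000300000002000000060000000700000004))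 (TN.leaf (nat_lit 0xa0000000200000008000000080000000a000000080000000a)))) (TN.node (TN.node (TN.leaf (nat_lit 0x1000000000000000700000006000000030000000400000000)) (TN.leaf (nat_lit 0x1000000000000000000000000))) (TN.leaf (nat_lit 0x1000000000000000000000000000000000000000000000000)))))
def Ct2 : TN := (TN.node (TN.node (TN.node (TN.node (TN.leaf (nat_lit 0xa000000040000000300000007000000000000000400000008)) (TN.leaf (nat_lit 0x10000000000000000000000000000000000000000))) (TN.node (TN.leaf (nat_lit 0x3000000050000000500000004000000050000000000000000)) (TN.leaf (nat_lit 0x3000000030000000100000003000000010000000100000009)))) (TN.node (TN.node (TN.leaf (nat_lit 0x2000000060000000900000004000000080000000200000007)) (TN.leaf (nat_lit 0x100000000))) (TN.leaf (nat_lit 0x20000000a0000000900000003000000010000000100000005)))) (TN.node (TN.node (TN.node (TN.leaf (nat_lit 0x20000000900000005000000080000000a0000000900000003)) (TN.leaf (nat_lit 0x10000000900000008000000080000000a000000030000000a)))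 (TN.node (TN.leaf (nat_lit 0x2000000010000000500000005000000020000000400000006)) (TN.leaf (nat_lit 0x3000000010000000100000009000000030000000300000001)))) (TN.node (TN.node (TN.leaf (nat_lit 0x40000000700000000000000060000000a0000000800000000)) (TN.leaf (nat_lit 0x10000000000000000000000000000000000000000))) (TN.leaf (nat_lit 0x100000000)))))
def Ct3 : TN := (TN.node Ct1 Ct2)
def Ct4 : TN := (TN.node (TN.node (TN.node (TN.node (TN.leaf (nat_lit 0x900000002000000030000000000000004000000000000000a)) (TN.leaf (nat_lit 0x100000000000000000000000000000000))) (TN.node (TN.leaf (nat_lit 0x2000000090000000400000004000000090000000300000006)) (TN.leaf (nat_lit 0x80000000a000000080000000a0000000a0000000200000008)))) (TN.node (TN.node (TN.leaf (nat_lit 0x4000000030000000400000008000000010000000400000000)) (TN.leaf (nat_lit 0x1000000030000000a0000000a000000020000000300000008))) (TN.leaf (nat_lit 0x900000009000000060000000a000000020000000500000002)))) (TN.node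 (TN.node (TN.node (TN.leaf (nat_lit 0x900000000000000040000000900000004000000020000000a)) (TN.leaf (nat_lit 0x900000003000000080000000a00000008000000010000000a))) (TN.node (TN.leaf (nat_lit 0x6000000050000000200000007000000090000000600000001)) (TN.leaf (nat_lit 0xa0000000a0000000200000008000000080000000a00000008)))) (TN.node (TN.node (TN.leaf (nat_lit 0x9000000010000000500000002000000040000000500000005)) (TN.leaf (nat_lit 0x100000000000000000000000000000000))) (TN.leaf (nat_lit 1)))))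
def Ct5 : TN := (TN.node (TN.node (TN.node (TN.node (TN.leaf (nat_lit 0x800000009000000050000000a000000070000000000000001)) (TN.leaf (nat_lit 0x300000001000000080000000a0000000a0000000900000008))) (TN.node (TN.leaf (nat_lit 0x4000000080000000500000009000000060000000700000007)) (TN.leaf (nat_lit 0x200000008000000080000000a000000080000000a0000000a)))) (TN.node (TN.node (TN.leaf (nat_lit 0x5000000070000000800000009000000040000000400000006)) (TN.leaf (nat_lit 0x10000000000000000))) (TN.leaf (nat_lit 0xa000000020000000900000003000000030000000200000006)))) (TN.node (TN.node (TN.node (TN.leaf (nat_lit 0x5000000000000000600000007000000000000000800000005)) (TN.leaf (nat_lit 0x1000000010000000200000008000000080000000100000008))) (TN.node (TN.leaf (nat_lit 0x3000000010000000200000005000000030000000200000009)) (TN.leaf (nat_lit 0x1000000030000000100000001000000090000000300000003)))) (TN.node (TN.node (TN.leaf (nat_lit 0x7000000070000000000000003000000040000000100000008))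 (TN.leaf (nat_lit 0x1000000000000000000000000000000000000000000000000))) (TN.leaf (nat_lit 0x10000000000000000)))))
def Ct6 : TN := (TN.node Ct4 Ct5)
def Ct : TN := (TN.node Ct3 Ct6)
noncomputable def C (j i : ℕ) : ℕ := TN.get Ct (Nat.add (Nat.mul j (nat_lit 7)) i)
def ix : Fin 7 → ℕ := Fin.val
noncomputable def M (j : ℕ) : Matrix (Fin 7) (Fin 7) (ZMod 11) := mx ix 1 1 (C j)
theorem lm : Lb ix 1 11 1 7 M C 8 := ⟨by decide +kernel, by decide +kernel, by decide +kernel, by decide +kernel⟩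
def nv (i : ℕ) : ℕ := Nat.land (Nat.shiftRight (nat_lit 253952) (Nat.mul (nat_lit 3) i)) (nat_lit 7)
def Wx_t : TL := (TL.node (TL.node (TL.leaf [nat_lit 1, nat_lit 1, nat_lit 0, nat_lit 1, nat_lit 1, nat_lit 0, nat_lit 0, nat_lit 0, nat_lit 0, nat_lit 0, nat_lit 0, nat_lit 0, nat_lit 0, nat_lit 0, nat_lit 0, nat_lit 0, nat_lit 0, nat_lit 1, nat_lit 0, nat_lit 0, nat_lit 0, nat_lit 0, nat_lit 0, nat_lit 0, nat_lit 1, nat_lit 0, nat_lit 0, nat_lit 0, nat_lit 0, nat_lit 0, nat_lit 0, nat_lit 0, nat_lit 0, nat_lit 0, nat_lit 0, nat_lit 0, nat_lit 0]) (TL.leaf [nat_lit 0, nat_lit 0, nat_lit 0, nat_lit 0, nat_lit 0, nat_lit 0, nat_lit 0, nat_lit 0, nat_lit 0, nat_lit 0, nat_lit 0, nat_lit 0, nat_lit 0, nat_lit 0, nat_lit 0, nat_lit 0, nat_lit 0, nat_lit 0, nat_lit 1, nat_lit 1, nat_lit 1, nat_lit 1, nat_lit 1, nat_lit 1, nat_lit 1, nat_lit 1, nat_lit 0, nat_lit 0, nat_lit 0, nat_lit 0, nat_lit 0, nat_lit 0, nat_lit 1, nat_lit 1, nat_lit 1, nat_lit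 1, nat_lit 0, nat_lit 0, nat_lit 1, nat_lit 1, nat_lit 1, nat_lit 1, nat_lit 0, nat_lit 0, nat_lit 0, nat_lit 0, nat_lit 0, nat_lit 0, nat_lit 1])) (TL.node (TL.leaf [nat_lit 1, nat_lit 1, nat_lit 1, nat_lit 1, nat_lit 0, nat_lit 0, nat_lit 1, nat_lit 1, nat_lit 1, nat_lit 1, nat_lit 1, nat_lit 1, nat_lit 1, nat_lit 1, nat_lit 0, nat_lit 0, nat_lit 0, nat_lit 0, nat_lit 0, nat_lit 0, nat_lit 0, nat_lit 0, nat_lit 0, nat_lit 0, nat_lit 0, nat_lit 0, nat_lit 1, nat_lit 0, nat_lit 0, nat_lit 0, nat_lit 0, nat_lit 0, nat_lit 0, nat_lit 1]) (TL.leaf [nat_lit 0, nat_lit 1, nat_lit 1, nat_lit 1, nat_lit 1, nat_lit 0, nat_lit 0, nat_lit 0, nat_lit 0, nat_lit 0, nat_lit 0, nat_lit 0, nat_lit 0, nat_lit 0, nat_lit 0, nat_lit 0, nat_lit 0, nat_lit 1, nat_lit 1, nat_lit 0, nat_lit 1, nat_lit 1, nat_lit 1, nat_lit 0, nat_lit 1, nat_lit 1, nat_lit 1, nat_lit 1, nat_lit 0, nat_lit 0, nat_lit 0, nat_lit 0, nat_lit 0, nat_lit 0, nat_lit 1])))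
noncomputable def Wx (i : ℕ) : List ℕ := TL.get Wx_t i
def Vx_t : TL := (TL.node (TL.leaf [nat_lit 1, nat_lit 3, nat_lit 1, nat_lit 0, nat_lit 3, nat_lit 1, nat_lit 0, nat_lit 2, nat_lit 0, nat_lit 3, nat_lit 2]) (TL.leaf [nat_lit 1, nat_lit 3, nat_lit 1, nat_lit 0, nat_lit 3, nat_lit 0, nat_lit 3, nat_lit 2, nat_lit 3, nat_lit 0, nat_lit 3, nat_lit 0, nat_lit 3]))
noncomputable def Vx (i : ℕ) : List ℕ := TL.get Vx_t i
def Rx_t : TL := (TL.node (TL.node (TL.node (TL.node (TL.leaf [nat_lit 0, nat_lit 1, nat_lit 0, nat_lit 1, nat_lit 0, nat_lit 1]) (TL.leaf [nat_lit 3, nat_lit 2, nat_lit 0, nat_lit 2, nat_lit 3, nat_lit 2, nat_lit 0, nat_lit 2])) (TL.node (TL.leaf [nat_lit 2, nat_lit 1, nat_lit 0, nat_lit 2, nat_lit 0, nat_lit 1, nat_lit 0, nat_lit 2, nat_lit 1, nat_lit 0, nat_lit 2, nat_lit 0, nat_lit 1, nat_lit 0, nat_lit 2, nat_lit 1, nat_lit 0, nat_lit 2, nat_lit 0, nat_lit 1, nat_lit 0]) (TL.leaf [nat_lit 0, nat_lit 0]))) (TL.node (TL.node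 (TL.leaf [nat_lit 1, nat_lit 2, nat_lit 1, nat_lit 2, nat_lit 1, nat_lit 2]) (TL.leaf [nat_lit 3, nat_lit 0, nat_lit 3, nat_lit 1, nat_lit 0, nat_lit 3, nat_lit 0, nat_lit 1, nat_lit 0, nat_lit 3, nat_lit 0, nat_lit 3, nat_lit 1, nat_lit 2, nat_lit 1, nat_lit 0, nat_lit 2, nat_lit 0, nat_lit 2])) (TL.node (TL.leaf [nat_lit 3, nat_lit 0, nat_lit 2, nat_lit 1, nat_lit 0, nat_lit 3, nat_lit 0, nat_lit 1, nat_lit 2, nat_lit 0]) (TL.leaf [nat_lit 2, nat_lit 2])))) (TL.node (TL.node (TL.node (TL.leaf [nat_lit 0, nat_lit 2, nat_lit 0, nat_lit 2, nat_lit 0, nat_lit 2, nat_lit 0, nat_lit 2, nat_lit 0, nat_lit 2]) (TL.leaf [nat_lit 3, nat_lit 1, nat_lit 3, nat_lit 2, nat_lit 3, nat_lit 1, nat_lit 3, nat_lit 2, nat_lit 3, nat_lit 0, nat_lit 1, nat_lit 0, nat_lit 2, nat_lit 0, nat_lit 2, nat_lit 1, nat_lit 2, nat_lit 0, nat_lit 2, nat_lit 1, nat_lit 0])) (TL.node (TL.leaf [nat_lit 2, nat_lit 3, nat_lit 2, nat_lit 3, nat_lit 2, nat_lit 3, nat_lit 2, nat_lit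 3, nat_lit 2, nat_lit 3]) (TL.leaf [nat_lit 1, nat_lit 1]))) (TL.node (TL.node (TL.leaf [nat_lit 2, nat_lit 0, nat_lit 2, nat_lit 1, nat_lit 0, nat_lit 2, nat_lit 0, nat_lit 1, nat_lit 2, nat_lit 0, nat_lit 2, nat_lit 1, nat_lit 0, nat_lit 2, nat_lit 0, nat_lit 1]) (TL.leaf [nat_lit 3, nat_lit 0, nat_lit 3, nat_lit 1, nat_lit 3, nat_lit 2, nat_lit 0, nat_lit 1, nat_lit 3, nat_lit 2, nat_lit 0, nat_lit 3, nat_lit 0, nat_lit 3, nat_lit 2, nat_lit 0, nat_lit 1, nat_lit 2, nat_lit 0, nat_lit 1, nat_lit 0, nat_lit 2, nat_lit 1])) (TL.node (TL.leaf [nat_lit 3, nat_lit 1, nat_lit 2, nat_lit 1, nat_lit 3, nat_lit 1, nat_lit 2, nat_lit 1]) (TL.leaf [nat_lit 3, nat_lit 3])))))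
noncomputable def Rx (i : ℕ) : List ℕ := TL.get Rx_t i
noncomputable def fu (j : ℕ) : ℕ := eqL 11 1 7 8 C [nv (Nat.add 4 j), Nat.add 4 j] []
noncomputable def fx (j : ℕ) : ℕ := Nat.add (lettE 2 (Wx j)) (eqL 11 1 7 8 C ((Wx j).map (Nat.add 4)) [j])
noncomputable def fv (j : ℕ) : ℕ := Nat.add (lettE 4 (Vx j)) (eqL 11 1 7 8 C (Vx j) [Nat.add 4 j])
noncomputable def fr (j : ℕ) : ℕ := Nat.add (lettE 4 (Rx j)) (eqL 11 1 7 8 C (Rx j) [])
theorem ua0 : Nat.beq (rng fu (nat_lit 0) (nat_lit 2)) (nat_lit 0) = true := by decide +kernel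
theorem ub0 : Nat.beq (rng fx (nat_lit 0) (nat_lit 4)) (nat_lit 0) = true := by decide +kernel
theorem uc0 : Nat.beq (rng fv (nat_lit 0) (nat_lit 2)) (nat_lit 0) = true := by decide +kernel
theorem ud0 : Nat.beq (rng fr (nat_lit 0) (nat_lit 16)) (nat_lit 0) = true := by decide +kernel
theorem hu : ∀ i < 2, fu i = 0 := by
  have h := zero_lt_zero fu
  have h := zero_lt_add (a := (nat_lit 0)) (n := (nat_lit 2)) (b := (nat_lit 2)) h ua0 rfl
  exact h
theorem hx : ∀ i < 4, fx i = 0 := by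
  have h := zero_lt_zero fx
  have h := zero_lt_add (a := (nat_lit 0)) (n := (nat_lit 4)) (b := (nat_lit 4)) h ub0 rfl
  exact h
theorem hv : ∀ i < 2, fv i = 0 := by
  have h := zero_lt_zero fv
  have h := zero_lt_add (a := (nat_lit 0)) (n := (nat_lit 2)) (b := (nat_lit 2)) h uc0 rfl
  exact h
theorem hr : ∀ i < 16, fr i = 0 := by
  have h := zero_lt_zero fr
  have h := zero_lt_add (a := (nat_lit 0)) (n := (nat_lit 16)) (b := (nat_lit 16)) h ud0 rfl
  exact h
theorem pq : Pr al (fun j => j) rels 4 := ⟨simple, ctr, top, ub, iv, rl, by decide +kernel⟩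
instance : Fact (Nat.Prime 11) := ⟨by decide⟩
theorem hX : M 4 = jankoMatrixX ∧ M 5 = jankoMatrixY := by decide +kernel
noncomputable def h (j : ℕ) : Cfsg.Spor.J1 := ev (fun i => PC.sub Cfsg.Spor.J1 (uL (RingHom.id _) M nv) (4 + i)) (Wx j)
theorem hh : ∀ j < 4, mat Cfsg.Spor.J1 (h j) = (M j).map (RingHom.id _) :=
  lm.wds _ (lin_of hu) (lin_of hx) fun j hj u e => Subgroup.subset_closure (by
    obtain rfl | rfl : j = 0 ∨ j = 1 := by omega
    exacts [.inl (Units.ext (e.trans hX.1)), .inr (Units.ext (e.trans hX.2))])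
theorem iso : Nonempty (P ≃* Cfsg.Spor.J1) := by
  have t : ∀ w, (∃ i < 16, Rx i = w) → ev h w = 1 := fun w ⟨i, hi, e⟩ => e ▸ lm.one hh (hr i hi)
  refine ⟨(pq.iso (h := h) (fun j hj => t _ ((by decide +kernel : ∀ j < 4, ∃ i < 16, Rx i = [j, j]) j hj))
    (fun w hw => t _ ((by decide +kernel : ∀ w ∈ rels, ∃ i < 16, Rx i = w) w hw))
    (lm.top hh rfl hv fun u hu => hu.elim (fun e => ⟨0, by decide, e ▸ hX.1.symm⟩) fun e => ⟨1, by decide, e ▸ hX.2.symm⟩)
    (j := 0) (by decide) fun e => ?_).choose⟩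
  have := hh 0 (by decide)
  rw [e, map_one] at this
  exact (by decide +kernel : 1 ≠ M 0) this

end Cfsg.Agent.Ct.J1
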