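import Cfsg.Agent.Lib.Cert.J1o.O
import Cfsg.Agent.Lib.Cert.J1.X
import Cfsg.Agent.Lib.Perm.Tri

set_option autoImplicit false

namespace Cfsg.Agent.Ct

open Cfsg.Agent.PC Cfsg.Agent.Fi Subgroup Cfsg.Agent.Perm

theorem cent_card {G H : Type*} [Group G] [Group H] [Finite G] (e : G ≃* H) (t : G) :
    Nat.card (centralizer {e t}) ≤ Nat.card (centralizer {t}) :=
  Nat.card_le_card_of_injective (fun x => (⟨e.symm x, mem_centralizer_singleton_iff.mpr (e.injective (by
    simpa using mem_centralizer_singleton_iff.mp x.2))⟩ : centralizer {t})) fun _ _ h => Subtype.ext (e.symm.injective (congrArg Subtype.val h))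

theorem cent_A5 {G : Type} [Group G] [Finite G] {t x y : G} (ht : orderOf t = 2) (hx : x ^ 2 = 1) (h1 : x ≠ 1) (hy : y ^ 3 = 1)
    (hz : (x * y) ^ 5 = 1) (c1 : Commute t x) (c2 : Commute t y) (hc : Nat.card (centralizer {t}) ≤ 120) :
    Nonempty (centralizer {t} ≃* Multiplicative (ZMod 2) × alternatingGroup (Fin 5)) := by
  have := Tri.simple_A5
  obtain ⟨φ, e1, e2⟩ := Tri.exists_hom_tri Tri.closure_A5 (Tri.order_a5 ▸ pow_orderOf_eq_one _) (Tri.order_b5 ▸ pow_orderOf_eq_one _)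
    (orderOf_dvd_iff_pow_eq_one.mp Tri.order_ab5.dvd) (.inr (.inr ⟨rfl, Tri.card_A5⟩)) hx hy hz
  have i1 : Function.Injective φ := inj_simple (e1 ▸ h1)
  obtain ⟨ι, i2, i3⟩ := zh t ht
  have k1 : ∀ b, Commute t (φ b) := fun b => by
    have : φ.range ≤ centralizer {t} := by
      rw [Tri.range_eq_of_pair Tri.closure_A5, closure_le, e1, e2]
      rintro _ (rfl | rfl)
      exacts [mem_centralizer_singleton_iff.mpr c1.symm, mem_centralizer_singleton_iff.mpr c2.symm]
    exact (mem_centralizer_singleton_iff.mp (this ⟨b, rfl⟩)).symm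
  have k2 : ∀ a b, Commute (ι a) (φ b) := fun a b => let ⟨k, hk⟩ := i3 a; hk ▸ (k1 b).zpow_left k
  let ψ := (ι.noncommCoprod φ k2).codRestrict (centralizer {t}) fun x => mul_mem
    (let ⟨k, hk⟩ := i3 x.1; hk ▸ zpow_mem (mem_centralizer_singleton_iff.mpr rfl) k) (mem_centralizer_singleton_iff.mpr (k1 x.2).symm)
  have i4 : Function.Injective ψ := (injective_iff_map_eq_one ψ).mpr fun x hx => by
    have h2 : ι x.1 * φ x.2 = 1 := congrArg Subtype.val hx
    have h3 : x.2 = 1 := mem_bot.mp (ctr_bot Tri.card_A5 (by norm_num) (by decide) ▸ mem_center_iff.mpr fun b => i1 (by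
      rw [map_mul, map_mul, eq_inv_of_mul_eq_one_right h2]; exact ((k2 x.1 b).inv_left.eq).symm))
    rw [h3, map_one, mul_one, map_eq_one_iff _ i2] at h2
    exact Prod.ext h2 h3
  refine ⟨(MulEquiv.ofBijective ψ ((Nat.bijective_iff_injective_and_card _).mpr ⟨i4, le_antisymm (Nat.card_le_card_of_injective _ i4) ?_⟩)).symm⟩
  rw [Nat.card_prod, Tri.card_A5]
  simpa using hc

namespace J1
noncomputable def W2 (j : ℕ) : List ℕ := [J1o.W 0, [3, 0, 2, 3, 2, 3, 2, 0, 1, 3, 0, 1], [3, 0, 2, 3, 2, 3, 0, 3, 0, 2, 1, 2, 0, 2, 0, 1, 2]].getD j []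
theorem cA : ∃ t : Cfsg.Spor.J1, orderOf t = 2 ∧ Nonempty (centralizer {t} ≃* Multiplicative (ZMod 2) × alternatingGroup (Fin 5)) := by
  obtain ⟨e⟩ := iso
  have := Finite.of_equiv _ e.toEquiv
  have M := md0.words' (W := W2) (r := 3) (by decide +kernel)
  have o := fun w p h => (M.ord le_rfl (a := (w, p)) h).2
  have h0 := o [0] 2 (by decide +kernel)
  have h1 := o [1] 2 (by decide +kernel)
  have h2 := o [2] 3 (by decide +kernel)
  have h3 := o [2, 1] 5 (by decide +kernel)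
  have h4 := M.eq (u := [0, 1]) (w := [1, 0]) (by decide +kernel)
  have h5 := M.eq (u := [0, 2]) (w := [2, 0]) (by decide +kernel)
  simp only [ev_cons, ev_nil, one_mul] at h0 h1 h2 h3 h4 h5
  have h6 := J1o.md.cls J1o.cs J1o.h3 (L := ⊤) fun _ _ => trivial
  rw [top_inf_eq, card_top, card] at h6
  have h7 : orderOf (e (ev al (W2 0))) = 2 := (e.orderOf_eq _).trans (orderOf_eq_prime h0.1 h0.2)
  exact ⟨_, h7, cent_A5 h7 (x := e _) (y := e _) (by rw [← map_pow, h1.1, map_one]) (by simpa using h1.2) (by rw [← map_pow, h2.1, map_one])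
    (by rw [← map_mul, ← map_pow, h3.1, map_one]) (Commute.map h4.symm e) (Commute.map h5.symm e)
    ((cent_card e _).trans (Nat.le_of_mul_le_mul_left h6 (by decide)))⟩

end J1

end Cfsg.Agent.Ct
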