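import Cfsg.Agent.Lib.Cert.Mod
import Cfsg.Agent.Lib.PermCert.PL

set_option autoImplicit false
set_option maxRecDepth 100000

namespace Cfsg.Agent.Ct.J1

open Cfsg.Agent.PC

open Cfsg.Agent.Fi Cfsg.Agent.Ct
namespace L1
def t0x : TN := (TN.leaf (nat_lit 0x2b2a45442841))
def t1x : TN := (TN.leaf (nat_lit 0x847529284342))
def tt : TN := (TN.node (TN.node (TN.node (TN.node t0x (TN.leaf (nat_lit 0))) (TN.node (TN.leaf (nat_lit 0)) (TN.leaf (nat_lit 0)))) (TN.node (TN.node (TN.leaf (nat_lit 0)) (TN.leaf (nat_lit 0))) (TN.node (TN.leaf (nat_lit 0)) (TN.leaf (nat_lit 0))))) (TN.node (TN.node (TN.node t1x (TN.leaf (nat_lit 0))) (TN.node (TN.leaf (nat_lit 0)) (TN.leaf (nat_lit 0)))) (TN.node (TN.node (TN.leaf (nat_lit 0)) (TN.leaf (nat_lit 0))) (TN.node (TN.leaf (nat_lit 0)) (TN.leaf (nat_lit 0))))))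
noncomputable def T (j c : ℕ) : ℕ := getL tt (nat_lit 8) (nat_lit 7) j c
noncomputable def E (j c : ℕ) : ℕ := getL tt (nat_lit 8) (nat_lit 255) j c
theorem T_eq (j c : ℕ) : T j c = E j c % 8 :=
  getL_mod (a := 3) (b := 8) _ _ (by norm_num) (by norm_num) (by norm_num) (by norm_num) j c
def rels : List (List ℕ) := [[nat_lit 0, nat_lit 1, nat_lit 0, nat_lit 1, nat_lit 0, nat_lit 1]]
def X_t : TN := (TN.leaf (nat_lit 0))
noncomputable def X (i : ℕ) : ℕ := get9 X_t (nat_lit 1) (nat_lit 1) i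
def Jp_t : TN := (TN.leaf (nat_lit 0))
noncomputable def Jp (i : ℕ) : ℕ := get9 Jp_t (nat_lit 1) (nat_lit 1) i
def J_t : TN := (TN.leaf (nat_lit 0))
noncomputable def J (k : ℕ) : ℕ := getV J_t Jp k
def Pa_t : TN := (TN.leaf (nat_lit 0x3612088a050000))
noncomputable def Pa (i : ℕ) : ℕ := get9 Pa_t (nat_lit 9) (nat_lit 511) i
def W_t : TL := (TL.leaf [nat_lit 3, nat_lit 1, nat_lit 0, nat_lit 1, nat_lit 0, nat_lit 1, nat_lit 0])
noncomputable def W (i : ℕ) : List ℕ := TL.get W_t i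
def WA_t : TL := (TL.leaf [nat_lit 0])
noncomputable def WA (i : ℕ) : List ℕ := TL.get WA_t i
noncomputable def row : ℕ → ℕ := hRow (nat_lit 5) (nat_lit 2) (nat_lit 0) (nat_lit 8) (nat_lit 4) (nat_lit 32) (nat_lit 128) (nat_lit 128) (nat_lit 0) E X Pa (fun j => j) (wfun (nat_lit 1) W_t)
noncomputable def aux : ℕ → ℕ := hAux (nat_lit 6) (nat_lit 2) (nat_lit 8) (nat_lit 32) (nat_lit 128) (nat_lit 2) (nat_lit 2) (nat_lit 128) (nat_lit 0) E X J Pa (fun j => j) WA_t.get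
theorem r0 : Nat.beq (rng row (nat_lit 0) (nat_lit 6)) (nat_lit 0) = true := by decide +kernel
theorem rows : ∀ i < 6, row i = 0 := by
  have h := zero_lt_zero row
  have h := zero_lt_add (a := (nat_lit 0)) (n := (nat_lit 6)) (b := (nat_lit 6)) h r0 rfl
  exact h
theorem auxs : ∀ i < 0, aux i = 0 := by
  have h := zero_lt_zero aux
  exact h
theorem closes.{u} : ClosesT.{u} (fun j => j) rels 2 0 6 T :=
  hc_closes (N1 := (nat_lit 5)) rfl T_eq (by decide +kernel) rows auxs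
theorem T_inv : ∀ c < 6, ∀ j < 2, T j c < 6 ∧ T j (T j c) = c := 
  hc_inv (inv := (fun j => j)) (N1 := (nat_lit 5)) rfl T_eq rows
end L1

namespace L2
def t0x : TN := (TN.leaf (nat_lit 0x606910e172eb10dd556d10d310d1905010ce10cd505710cb206c10ca10c98058206a10c465db10c110c072de42e310bd10bc10bb206810b92067856610b72065206410b420622060205f10b2504310b110b0205c454710ae205a205910ac10ab205620552054553a205210a6204f10a55028204c10a2204820462045109f2042109e203f203e332a109b4535109920382036401a1096203310951094202f202d1092459c202932a42027108f108e202320212020108c201d108b108a2018201710882013201120101085200d10841083200920072006108120021080))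
def t1x : TN := (TN.leaf (nat_lit 0x10e2d06464ebb06110d7a06791e88052404fc1ec10cb206da66a404c50557051504d404510c171da60546053206941d641df51d954d874e664de10b831e510b644dd31e0206310b310b2403c10b1404231dc10af10ae33c6205b10ac503b51be10aa3448463f10a710a6205010a5204e10a310a2204a20492047109f2044204340202040109c203d401d109a203a20392037109620352034401731ad2030109331a9202b109120284499401031a12024108d108c201e108b201b3198108910882015201420121085200f200e40063187200a10821081200420031080))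
def t2x : TN := (TN.leaf (nat_lit 0xc068e06410df80636169b16d405410ce705ad86c726a605910ca5052206b10c610c4705650476765526210bf10be675c4255326710ba47e010b8504256cf206610b5603610b3206150375040415b205e56c5205d4030475010ad414820582057402b10a910a72053502820514149524c204d4024204b10a110a031434023109e2041109d313d109b203c4139203b109810973134322f1095203220311093202e202c1091202a1090108f20262025108d20225012201f4114201c201a2019400a201610871086310e32091084200c200b108220083103200510802001))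
def tt : TN := (TN.node (TN.node (TN.node (TN.node t0x (TN.leaf (nat_lit 0))) (TN.node (TN.leaf (nat_lit 0)) (TN.leaf (nat_lit 0)))) (TN.node (TN.node t2x (TN.leaf (nat_lit 0))) (TN.node (TN.leaf (nat_lit 0)) (TN.leaf (nat_lit 0))))) (TN.node (TN.node (TN.node t1x (TN.leaf (nat_lit 0))) (TN.node (TN.leaf (nat_lit 0)) (TN.leaf (nat_lit 0)))) (TN.node (TN.node (TN.leaf (nat_lit 0)) (TN.leaf (nat_lit 0))) (TN.node (TN.leaf (nat_lit 0)) (TN.leaf (nat_lit 0))))))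
noncomputable def T (j c : ℕ) : ℕ := getL tt (nat_lit 16) (nat_lit 127) j c
noncomputable def E (j c : ℕ) : ℕ := getL tt (nat_lit 16) (nat_lit 65535) j c
theorem T_eq (j c : ℕ) : T j c = E j c % 128 :=
  getL_mod (a := 7) (b := 16) _ _ (by norm_num) (by norm_num) (by norm_num) (by norm_num) j c
def rels : List (List ℕ) := [[nat_lit 0, nat_lit 1, nat_lit 0, nat_lit 1, nat_lit 0, nat_lit 1], [nat_lit 0, nat_lit 2, nat_lit 0, nat_lit 2, nat_lit 0, nat_lit 2, nat_lit 0, nat_lit 2, nat_lit 0, nat_lit 2], [nat_lit 1, nat_lit 2, nat_lit 1, nat_lit 2, nat_lit 1, nat_lit 2], [nat_lit 2, nat_lit 0, nat_lit 2, nat_lit 1, nat_lit 0, nat_lit 2, nat_lit 0, nat_lit 1, nat_lit 2, nat_lit 0, nat_lit 2, nat_lit 1, nat_lit 0, nat_lit 2, nat_lit 0, nat_lit 1], [nat_lit 2, nat_lit 1, nat_lit 0, nat_lit 2, nat_lit 0, nat_lit 1, nat_lit 0, nat_lit 2, nat_lit 1, nat_lit 0, nat_lit 2, nat_lit 0, nat_lit 1, nat_lit 0, nat_lit 2, nat_lit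 1, nat_lit 0, nat_lit 2, nat_lit 0, nat_lit 1, nat_lit 0]]
def X_t : TN := (TN.leaf (nat_lit 0))
noncomputable def X (i : ℕ) : ℕ := get9 X_t (nat_lit 1) (nat_lit 1) i
def Jp_t : TN := (TN.leaf (nat_lit 0))
noncomputable def Jp (i : ℕ) : ℕ := get9 Jp_t (nat_lit 1) (nat_lit 1) i
def J_t : TN := (TN.leaf (nat_lit 0))
noncomputable def J (k : ℕ) : ℕ := getV J_t Jp k
def Pa_t : TN := (TN.leaf (nat_lit 0x2f10de10bbe57742ab8d530aa21538aa7054d0a96352c2a5154a0a921518aa215440a82350426004bf297c52f425e04bb097452e425c14b8196e12d865a94b4096652cc6590cb2096232c425804af195c32b8256942c185810ac2150c29284e509c6130c26084a30942118c2218441084a10141f183e1078a0f039d27382e6c9cd839a17320e609cb9396172c0e549ca839407264e4c589031126222c40987930f061c0c349868b0c16180a2c545828a05122a205440287240c481450282042408060c0c111821202240404010000))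
noncomputable def Pa (i : ℕ) : ℕ := get9 Pa_t (nat_lit 15) (nat_lit 32767) i
def W_t : TL := (TL.node (TL.node (TL.node (TL.node (TL.leaf [nat_lit 4099, nat_lit 2, nat_lit 1, nat_lit 2, nat_lit 1, nat_lit 2, nat_lit 1]) (TL.leaf [nat_lit 1, nat_lit 0, nat_lit 1, nat_lit 0, nat_lit 1, nat_lit 0, nat_lit 1])) (TL.node (TL.leaf [nat_lit 6147, nat_lit 0, nat_lit 2, nat_lit 1, nat_lit 0, nat_lit 2, nat_lit 0, nat_lit 1, nat_lit 2, nat_lit 0, nat_lit 2, nat_lit 1, nat_lit 0, nat_lit 2, nat_lit 0, nat_lit 1, nat_lit 2]) (TL.leaf [nat_lit 6145, nat_lit 2, nat_lit 0, nat_lit 2, nat_lit 1, nat_lit 0, nat_lit 2, nat_lit 0, nat_lit 1, nat_lit 2, nat_lit 0, nat_lit 2, nat_lit 1, nat_lit 0, nat_lit 2, nat_lit 0, nat_lit 1]))) (TL.node (TL.node (TL.leaf [nat_lit 2051, nat_lit 2, nat_lit 0, nat_lit 2, nat_lit 0, nat_lit 2, nat_lit 0, nat_lit 2, nat_lit 0, nat_lit 2, nat_lit 0]) (TL.leaf [nat_lit 6159, nat_lit 1, nat_lit 2,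 nat_lit 0, nat_lit 2, nat_lit 1, nat_lit 0, nat_lit 2, nat_lit 0, nat_lit 1, nat_lit 2, nat_lit 0, nat_lit 2, nat_lit 1, nat_lit 0, nat_lit 2, nat_lit 0])) (TL.node (TL.leaf [nat_lit 8204, nat_lit 1, nat_lit 2, nat_lit 0, nat_lit 1, nat_lit 0, nat_lit 2, nat_lit 0, nat_lit 1, nat_lit 2, nat_lit 0, nat_lit 1, nat_lit 0, nat_lit 2, nat_lit 0, nat_lit 1, nat_lit 2, nat_lit 0, nat_lit 1, nat_lit 0, nat_lit 2, nat_lit 0]) (TL.leaf [nat_lit 6149, nat_lit 2, nat_lit 1, nat_lit 0, nat_lit 2, nat_lit 0, nat_lit 1, nat_lit 2, nat_lit 0, nat_lit 2, nat_lit 1, nat_lit 0, nat_lit 2, nat_lit 0, nat_lit 1, nat_lit 2, nat_lit 0])))) (TL.node (TL.node (TL.node (TL.leaf [nat_lit 3, nat_lit 1, nat_lit 0, nat_lit 1, nat_lit 0, nat_lit 1, nat_lit 0]) (TL.leaf [nat_lit 2049, nat_lit 0, nat_lit 2, nat_lit 0, nat_lit 2, nat_lit 0, nat_lit 2, nat_lit 0, nat_lit 2, nat_lit 0, nat_lit 2])) (TL.node (TL.leaf [nat_lit 8203, nat_lit 1, nat_lit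 0, nat_lit 2, nat_lit 1, nat_lit 0, nat_lit 2, nat_lit 0, nat_lit 1, nat_lit 0, nat_lit 2, nat_lit 1, nat_lit 0, nat_lit 2, nat_lit 0, nat_lit 1, nat_lit 0, nat_lit 2, nat_lit 1, nat_lit 0, nat_lit 2, nat_lit 0]) (TL.leaf [nat_lit 8200, nat_lit 2, nat_lit 0, nat_lit 1, nat_lit 2, nat_lit 0, nat_lit 1, nat_lit 0, nat_lit 2, nat_lit 0, nat_lit 1, nat_lit 2, nat_lit 0, nat_lit 1, nat_lit 0, nat_lit 2, nat_lit 0, nat_lit 1, nat_lit 2, nat_lit 0, nat_lit 1, nat_lit 0]))) (TL.node (TL.node (TL.leaf [nat_lit 6153, nat_lit 0, nat_lit 2, nat_lit 0, nat_lit 1, nat_lit 2, nat_lit 0, nat_lit 2, nat_lit 1, nat_lit 0, nat_lit 2, nat_lit 0, nat_lit 1, nat_lit 2, nat_lit 0, nat_lit 2, nat_lit 1]) (TL.leaf [nat_lit 6155, nat_lit 2, nat_lit 0, nat_lit 1, nat_lit 2, nat_lit 0, nat_lit 2, nat_lit 1, nat_lit 0, nat_lit 2, nat_lit 0, nat_lit 1, nat_lit 2, nat_lit 0, nat_lit 2, nat_lit 1, nat_lit 0])) (TL.leaf [nat_lit 4097, nat_lit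 1, nat_lit 2, nat_lit 1, nat_lit 2, nat_lit 1, nat_lit 2]))))
noncomputable def W (i : ℕ) : List ℕ := TL.get W_t i
def WA_t : TL := (TL.leaf [nat_lit 0])
noncomputable def WA (i : ℕ) : List ℕ := TL.get WA_t i
noncomputable def row : ℕ → ℕ := hRow (nat_lit 109) (nat_lit 3) (nat_lit 2) (nat_lit 128) (nat_lit 32) (nat_lit 4096) (nat_lit 2048) (nat_lit 2048) (nat_lit 0) E X Pa (fun j => j) (wfun (nat_lit 15) W_t)
noncomputable def aux : ℕ → ℕ := hAux (nat_lit 110) (nat_lit 3) (nat_lit 128) (nat_lit 4096) (nat_lit 2048) (nat_lit 2) (nat_lit 2) (nat_lit 2048) (nat_lit 0) E X J Pa (fun j => j) WA_t.get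
theorem r0 : Nat.beq (rng row (nat_lit 0) (nat_lit 110)) (nat_lit 0) = true := by decide +kernel
theorem rows : ∀ i < 110, row i = 0 := by
  have h := zero_lt_zero row
  have h := zero_lt_add (a := (nat_lit 0)) (n := (nat_lit 110)) (b := (nat_lit 110)) h r0 rfl
  exact h
theorem auxs : ∀ i < 0, aux i = 0 := by
  have h := zero_lt_zero aux
  exact h
theorem closes.{u} : ClosesT.{u} (fun j => j) rels 3 2 110 T :=
  hc_closes (N1 := (nat_lit 109)) rfl T_eq (by decide +kernel) rows auxs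
theorem T_inv : ∀ c < 110, ∀ j < 3, T j c < 110 ∧ T j (T j c) = c := 
  hc_inv (inv := (fun j => j)) (N1 := (nat_lit 109)) rfl T_eq rows
end L2

namespace L3
def t0x : TN := (TN.leaf (nat_lit 0x40bd0102f28c03d8102e24003ea001026c03c5f23047003dde00df780374102d1780390102cc6403a8f5105040b29c00ee6c8c062090765ebd42010978034820108688c0c102b5040ac9b2cf8640325900c77002e9870fb040aad600b66c0380102a550036dd08fd040a7420106040a6da22e774240010296760bfc102954c2395a00a1380319900d5640301700b3614361670d4040a21d08f30803f810284040a0970092440200200fc380308200f961c3b55009f608bb0d22d90409e5300ae0409e0d08cb540299870d70409d1200835c0230102716972edb1ceb0409c14009a0409b9508e80803c0f007c594358200ef555ac4102675001d5222c4040994102600803a41025e0409754008a04096d42cc10803991009804096010257648b681025651a3201025508038cf006f080385322b8040949022a4040944200de080370f007e040939608ce1801f4a007a2001901024b1801a1622bd04092532ca8208a24200d3380140102473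c014c200d04422f8200cf040915050cd040910e5694147244e52b42c21ec92290080314200c30408f8f00634d92bc200bf0408ecd00610802f0200b9397a70200b70408e44003f1000f0102383401645088d0802c0102360802b47088f3941d81023430b9c8200ac0408cc200aa0802a41023008029c1022f3021a4200a3080288200a00802781022c3972142009908025cd22870408a020093240108102270802381022608022c10225080218102240802042007f04088882c4d290104722400c21b02007704088030e6b0801cc1021e0801b42006a0408702006604086c2006208017c102192800ac2005c080168102170408542005424b8c4102130408482004f0801302004a080120200460408402004304083c2003d0408382003a040834200370800d4500160800c81020b0800b84081a0800b4102090800a820029040820200230800842001f08007410206080060102050800502001104080c2000c0800283080408001c1020108000810200))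
def t1x : TN := (TN.leaf (nat_lit 0x8003f5f01057803aa000f3781421800ed040b6de00ee040b5df00fb040b49100dc7c1425b00f5791401d00eb640358102c9680379a00df6913f1900e37c1419400ba6403a0400b77402edd73025c4410102af7043e9d3d071002b1810f15c0309700b06002d81029d61abd1d00dd48033d900d56493d993cf7709389004fe08040c10293040a45600cb080405804f960f381400aa300280200ff4002a5900a14413858008a58027d110cc55ab601027e0803e1600a25c0298102793001f4102784802b563ce70409d5900961001dd300720409c56008b7203bd33cf21001cc1026f0c13c1710e50409b50007f480251062b25dcac5604e60803b01026545130c304e904097d362d43cf3441025b44024963cc75801981025840025d56cc8609340b04d355ab35300990803913008544020410253481278102513d528d878c020017513cb3080369054a70803641024c2801a9100622802201024955baf1704ce0409209108d04091cd004f489270e004e2c01b010245406a6ce00573c12d0200ca2d5314102432841ec10242080318200c40c12fcf004b0803041023d0c12e5210be0802f41023a0802e0102390802d4a10830408e09048f3801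68800560408d951aa50802b89003c0408d10048e2400fc102330802ace105e1c9254400320802a0d04690408b8200a434f200710680408b1200520802691545408026010228311218d108404089c200903969d8400290802302008908021cc0031080208102220801f02007a24410410221204184102200801d081064040878200700801b82006b1c00b420067100074200630801803045c2c11181021804085c200591810dc2005520008c9001f0c112820050080134102111c4094102101c40ac200440801002003e2010a82003b0c10d4600140408307000e04082c200300800bc7001304082451a1c184058102080800982002418403c6101a0408182001b08006440007080054200120c10282000d040808410040408042000508000c10200))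
def t2x : TN := (TN.leaf (nat_lit 0x900416301028803ee100f58c5424102dc780376215087403a9d00d7480365300e67403b9500ef842c1c102ca680391b00f46c037c102c0804c19a12f8040aed900bd040add800d4505bf1c0afd040ac1b00e06c0361c150164039c102aa604ba5242fe040a89912f94c033dc00da180325a12ec684bdd70096744c0c20104040a4db0ae2444bfda0aeb702c001028b040a29714f0200345100901c534d600b1485b8d600af5002c81027f0409f8200fa145385600b54c0290d00c41802b4c12c62801f0102775002cc200f65002b110073602bc91009d0803cc102704802e1106b90803c41026d546320c3eb44c4b0533ecd545340200ed542b385006e145b15314bf3c02a4200e83832ad3009a4401d95666604096120ac73c0218200e52cfa84e005f3d627d400854052f01025404094d212a84401489005d38018963ade0409410007408036cf006a04093100ad204092d2004f04092490087080358200d53001e010247201a30e18a34c4a7810246040914a006b2c016cf005a080330200cb04090c918c30409089067a100120b4289080309018a70408f4f1894402af8e006f0408e8200ba3451c8412ae0802d810238241a08e0a920408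dc102361c0155600a60408d4102342000ecd14970408cc8003e34528010232204a60d485c28ea04e12801800b8200a50408b41022c18199c2009c08026d03a990408a020095443238900292000c02009108023cc003108023430a790802202008408020ca002f0801f42007b04088483240040880706600801d41021e1c198c200710408742006c0801a420068080194200640801842005e2ce1287124d24491050c5908015c200560408505002220293820051040844700180408406062414006c4142a0801042003f1c005c2003c0800e41020c10608c1020b18003460c2618507c102091800482002b0408205061508009c2002504081c102061418642001c0800685160a0800582001308003c2000e100008102010c180c30c0508001010200))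
def t3x : TN := (TN.leaf (nat_lit 0x94040e200f8040b92300f3040b71900de90ac24102da8003e8102d35403a5b00e5040b3d500ef040b2df290168038617708040b05b00e6040af4102bc88a418102b9540319876f050dbf0102b05c02d5900c4040ab4102ab50a3fcb2ae8040aa5a7cf669fbf8201075c030c1029c64a3e41029a040a6182b04040a54201054c0264201025c032810290040a2d6009e5002901028908040010286040a1197cd00803f4102810409fd300830803ed628d90409f41027c0409ed42af1391ad9828ec58d38d300a70803dc10274540280102710803d4200f40409c1800b80803c9774ba340230f00c558abb41026b0409a81026804099c200ee040998e006e0803acf008f0803a90008808039d3008748ab081025a3401e931ed55401b4c008e04095942abf04095552ad6040950200e2180234200e048ab6c200df4801d4102500803741024f48d1441024d340188200d838dab0b34a2147a6cc4eb708035c10248080350f4eaa48a2a0200d2040918200d148a330b005e0803381024408033410243080324200c808031cc4ca5040904102403001301023d44aa5c200c04401941023a0802f8200bb0408e4d28ae509a8cb005c0802d0200b32ca9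a4200b20802c4200af4181cd1003f3c00f0c46912c00f8f1e3b280128a2a820408c0a366c0408bc200a62400b81022d24a95c200a108027c2009d0408a8102294c024c2009608025010227080248b36770408989305f0408942008a0408902008504088c200800801f8102210801e42007840a190a4a610801d8e2063400180200720801bc1021c30007c1021b3000741021a040864a36320408602005d08016c826590801601021428a8ac20053080148102110801382004b080124200470801141020f0801081020e2cd8dc1020d2cd0d4200380800d8200340800cc20031040828928161c004c2002c18805481e120800a01020708008820020080078a340c04081420017040810102030800401020208002c200090800202000604080020001))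
def tt : TN := (TN.node (TN.node (TN.node (TN.node t0x (TN.leaf (nat_lit 0))) (TN.node (TN.leaf (nat_lit 0)) (TN.leaf (nat_lit 0)))) (TN.node (TN.node t2x (TN.leaf (nat_lit 0))) (TN.node (TN.leaf (nat_lit 0)) (TN.leaf (nat_lit 0))))) (TN.node (TN.node (TN.node t1x (TN.leaf (nat_lit 0))) (TN.node (TN.leaf (nat_lit 0)) (TN.leaf (nat_lit 0)))) (TN.node (TN.node t3x (TN.leaf (nat_lit 0))) (TN.node (TN.leaf (nat_lit 0)) (TN.leaf (nat_lit 0))))))
noncomputable def T (j c : ℕ) : ℕ := getL tt (nat_lit 22) (nat_lit 511) j c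
noncomputable def E (j c : ℕ) : ℕ := getL tt (nat_lit 22) (nat_lit 0x3fffff) j c
theorem T_eq (j c : ℕ) : T j c = E j c % 512 :=
  getL_mod (a := 9) (b := 22) _ _ (by norm_num) (by norm_num) (by norm_num) (by norm_num) j c
def rels : List (List ℕ) := [[nat_lit 0, nat_lit 1, nat_lit 0, nat_lit 1, nat_lit 0, nat_lit 1], [nat_lit 0, nat_lit 2, nat_lit 0, nat_lit 2, nat_lit 0, nat_lit 2, nat_lit 0, nat_lit 2, nat_lit 0, nat_lit 2], [nat_lit 1, nat_lit 2, nat_lit 1, nat_lit 2, nat_lit 1, nat_lit 2], [nat_lit 2, nat_lit 0, nat_lit 2, nat_lit 1, nat_lit 0, nat_lit 2, nat_lit 0, nat_lit 1, nat_lit 2, nat_lit 0, nat_lit 2, nat_lit 1, nat_lit 0, nat_lit 2, nat_lit 0, nat_lit 1], [nat_lit 2, nat_lit 1, nat_lit 0, nat_lit 2, nat_lit 0, nat_lit 1, nat_lit 0, nat_lit 2, nat_lit 1, nat_lit 0, nat_lit 2, nat_lit 0, nat_lit 1, nat_lit 0, nat_lit 2, nat_lit 1, nat_lit 0, nat_lit 2, nat_lit 0, nat_lit 1, nat_lit 0], [nat_lit 2,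 nat_lit 3, nat_lit 2, nat_lit 3, nat_lit 2, nat_lit 3, nat_lit 2, nat_lit 3, nat_lit 2, nat_lit 3], [nat_lit 3, nat_lit 0, nat_lit 2, nat_lit 1, nat_lit 0, nat_lit 3, nat_lit 0, nat_lit 1, nat_lit 2, nat_lit 0], [nat_lit 3, nat_lit 1, nat_lit 2, nat_lit 1, nat_lit 3, nat_lit 1, nat_lit 2, nat_lit 1], [nat_lit 3, nat_lit 2, nat_lit 0, nat_lit 2, nat_lit 3, nat_lit 2, nat_lit 0, nat_lit 2], [nat_lit 3, nat_lit 1, nat_lit 3, nat_lit 2, nat_lit 3, nat_lit 1, nat_lit 3, nat_lit 2, nat_lit 3, nat_lit 0, nat_lit 1, nat_lit 0, nat_lit 2, nat_lit 0, nat_lit 2, nat_lit 1, nat_lit 2, nat_lit 0, nat_lit 2, nat_lit 1, nat_lit 0], [nat_lit 3, nat_lit 0, nat_lit 3, nat_lit 1, nat_lit 0, nat_lit 3, nat_lit 0, nat_lit 1, nat_lit 0, nat_lit 3, nat_lit 0, nat_lit 3, nat_lit 1, nat_lit 2, nat_lit 1, nat_lit 0, nat_lit 2, nat_lit 0, nat_lit 2], [nat_lit 3, nat_lit 0, nat_lit 3, nat_lit 1, nat_lit 3, nat_lit 2, nat_lit 0, nat_lit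 1, nat_lit 3, nat_lit 2, nat_lit 0, nat_lit 3, nat_lit 0, nat_lit 3, nat_lit 2, nat_lit 0, nat_lit 1, nat_lit 2, nat_lit 0, nat_lit 1, nat_lit 0, nat_lit 2, nat_lit 1]]
def X_t : TN := (TN.leaf (nat_lit 0))
noncomputable def X (i : ℕ) : ℕ := get9 X_t (nat_lit 1) (nat_lit 1) i
def Jp_t : TN := (TN.leaf (nat_lit 0))
noncomputable def Jp (i : ℕ) : ℕ := get9 Jp_t (nat_lit 1) (nat_lit 1) i
def J_t : TN := (TN.leaf (nat_lit 0))
noncomputable def J (k : ℕ) : ℕ := getV J_t Jp k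
def Pa_t : TN := (TN.leaf (nat_lit 0x29e814f209721cb8825b872dc296d8cb68e5ae32d339690cb44259e72cc09659cb28a59412c919609cb00a57a72bc395d94ae4e56e52b5095904ac0e56052af19569caace55612aa29549c2942144509d184e84270e136109a384c1c258212a709508499424c6122309038459c22ca1145089384404218e1087084084104204e0fe707f283f141f860fa707c383d9c1e460f21078183c041dca0ea3074383a041c4e0e2307108381c1c0a0e0106f1837041b4a0da306b38351c1a0e0ce706708331c19460ca1060082f8c17820ba105b182d84168dcb04e58172c0395c1cac6e56072a9b9541ca86e5427299394c5ca40e51172883940dca04e4f372703934dc984e4c17259392c1c924e49172483920dc902e4727238b91c1c8c6e462722939145c8a0e4437220390cdc864e431721139085c826e40371f038f4dc7a4e3d171d838e8dc744e3a171c9b8e45c720e38271c0b8e01c6e4e36271b0b8d81c6a4e34271a0b8d01c664e331719838c89c606e3007179b8bc1c5c2c2d3616930b098582c2c06151b0a4d8504c2816140309cd84e2c2706131b098184a6c2506121b09018466c22161103084d8424c2116101308058400c1e260f0b078183a4c1c360e0306cd8360c1a360c9b06418306c18160b8b05c142a0a14350a1284c14240a1135089284454204a1015080283cd41e0a0e350702834d41a0a0c25060a82c94162a0b05051a0249012280904041202050100807340392018900c280604029a0140c086603330181808cc042401220089004040060000))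
noncomputable def Pa (i : ℕ) : ℕ := get9 Pa_t (nat_lit 17) (nat_lit 131071) i
def W_t : TL := (TL.node (TL.node (TL.node (TL.node (TL.node (TL.node (TL.leaf [nat_lit 3, nat_lit 1, nat_lit 0, nat_lit 1, nat_lit 0, nat_lit 1, nat_lit 0]) (TL.leaf [nat_lit 20495, nat_lit 1, nat_lit 0, nat_lit 3, nat_lit 0, nat_lit 3, nat_lit 1, nat_lit 2, nat_lit 1, nat_lit 0, nat_lit 2, nat_lit 0, nat_lit 2, nat_lit 3, nat_lit 0, nat_lit 3, nat_lit 1, nat_lit 0, nat_lit 3, nat_lit 0])) (TL.node (TL.leaf [nat_lit 14343, nat_lit 1, nat_lit 3, nat_lit 1, nat_lit 2, nat_lit 1, nat_lit 3, nat_lit 1, nat_lit 2]) (TL.leaf [nat_lit 22554, nat_lit 0, nat_lit 2, nat_lit 3, nat_lit 1, nat_lit 0, nat_lit 2, nat_lit 3, nat_lit 1, nat_lit 3, nat_lit 0, nat_lit 3, nat_lit 1, nat_lit 2, nat_lit 0, nat_lit 1, nat_lit 0, nat_lit 2, nat_lit 1, nat_lit 0, nat_lit 2, nat_lit 3, nat_lit 0, nat_lit 3]))) (TL.node (TL.node (TL.leaf [nat_lit 16391, nat_lit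 2, nat_lit 3, nat_lit 2, nat_lit 0, nat_lit 2, nat_lit 3, nat_lit 2, nat_lit 0]) (TL.leaf [nat_lit 12303, nat_lit 1, nat_lit 2, nat_lit 0, nat_lit 3, nat_lit 0, nat_lit 2, nat_lit 1, nat_lit 0, nat_lit 3, nat_lit 0])) (TL.node (TL.leaf [nat_lit 12289, nat_lit 3, nat_lit 0, nat_lit 2, nat_lit 1, nat_lit 0, nat_lit 3, nat_lit 0, nat_lit 1, nat_lit 2, nat_lit 0]) (TL.leaf [nat_lit 22566, nat_lit 3, nat_lit 1, nat_lit 3, nat_lit 0, nat_lit 3, nat_lit 1, nat_lit 2, nat_lit 0, nat_lit 1, nat_lit 0, nat_lit 2, nat_lit 1, nat_lit 0, nat_lit 2, nat_lit 3, nat_lit 0, nat_lit 3, nat_lit 0, nat_lit 2, nat_lit 3, nat_lit 1, nat_lit 0, nat_lit 2])))) (TL.node (TL.node (TL.node (TL.leaf [nat_lit 12305, nat_lit 2, nat_lit 0, nat_lit 3, nat_lit 0, nat_lit 2, nat_lit 1, nat_lit 0, nat_lit 3, nat_lit 0, nat_lit 1]) (TL.leaf [nat_lit 18449, nat_lit 3, nat_lit 0, nat_lit 1, nat_lit 0, nat_lit 2, nat_lit 0, nat_lit 2, nat_lit 1,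 nat_lit 2, nat_lit 0, nat_lit 2, nat_lit 1, nat_lit 0, nat_lit 3, nat_lit 1, nat_lit 3, nat_lit 2, nat_lit 3, nat_lit 1, nat_lit 3, nat_lit 2])) (TL.node (TL.leaf [nat_lit 12307, nat_lit 0, nat_lit 3, nat_lit 0, nat_lit 2, nat_lit 1, nat_lit 0, nat_lit 3, nat_lit 0, nat_lit 1, nat_lit 2]) (TL.leaf [nat_lit 20512, nat_lit 1, nat_lit 3, nat_lit 0, nat_lit 3, nat_lit 2, nat_lit 0, nat_lit 2, nat_lit 0, nat_lit 1, nat_lit 2, nat_lit 1, nat_lit 3, nat_lit 0, nat_lit 3, nat_lit 0, nat_lit 1, nat_lit 0, nat_lit 3, nat_lit 0]))) (TL.node (TL.node (TL.leaf [nat_lit 2049, nat_lit 0, nat_lit 2, nat_lit 0, nat_lit 2, nat_lit 0, nat_lit 2, nat_lit 0, nat_lit 2, nat_lit 0, nat_lit 2]) (TL.leaf [nat_lit 22531, nat_lit 0, nat_lit 3, nat_lit 1, nat_lit 3, nat_lit 2, nat_lit 0, nat_lit 1, nat_lit 3, nat_lit 2, nat_lit 0, nat_lit 3, nat_lit 0, nat_lit 3, nat_lit 2, nat_lit 0, nat_lit 1, nat_lit 2, nat_lit 0, nat_lit 1, nat_lit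 0, nat_lit 2, nat_lit 1, nat_lit 3])) (TL.node (TL.leaf [nat_lit 14339, nat_lit 1, nat_lit 2, nat_lit 1, nat_lit 3, nat_lit 1, nat_lit 2, nat_lit 1, nat_lit 3]) (TL.leaf [nat_lit 18474, nat_lit 3, nat_lit 0, nat_lit 1, nat_lit 2, nat_lit 0, nat_lit 2, nat_lit 1, nat_lit 2, nat_lit 0, nat_lit 2, nat_lit 0, nat_lit 1, nat_lit 0, nat_lit 3, nat_lit 2, nat_lit 3, nat_lit 1, nat_lit 3, nat_lit 2, nat_lit 3, nat_lit 1]))))) (TL.node (TL.node (TL.node (TL.node (TL.leaf [nat_lit 16389, nat_lit 0, nat_lit 2, nat_lit 3, nat_lit 2, nat_lit 0, nat_lit 2, nat_lit 3, nat_lit 2]) (TL.leaf [nat_lit 8206, nat_lit 2, nat_lit 0, nat_lit 1, nat_lit 0, nat_lit 2, nat_lit 0, nat_lit 1, nat_lit 2, nat_lit 0, nat_lit 1, nat_lit 0, nat_lit 2, nat_lit 0, nat_lit 1, nat_lit 2, nat_lit 0, nat_lit 1, nat_lit 0, nat_lit 2, nat_lit 0, nat_lit 1])) (TL.node (TL.leaf [nat_lit 14337, nat_lit 3, nat_lit 1, nat_lit 2, nat_lit 1, nat_lit 3, nat_lit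 1, nat_lit 2, nat_lit 1]) (TL.leaf [nat_lit 20498, nat_lit 0, nat_lit 3, nat_lit 0, nat_lit 1, nat_lit 0, nat_lit 3, nat_lit 0, nat_lit 1, nat_lit 3, nat_lit 0, nat_lit 3, nat_lit 2, nat_lit 0, nat_lit 2, nat_lit 0, nat_lit 1, nat_lit 2, nat_lit 1, nat_lit 3]))) (TL.node (TL.node (TL.leaf [nat_lit 12293, nat_lit 2, nat_lit 1, nat_lit 0, nat_lit 3, nat_lit 0, nat_lit 1, nat_lit 2, nat_lit 0, nat_lit 3, nat_lit 0]) (TL.leaf [nat_lit 18439, nat_lit 2, nat_lit 3, nat_lit 1, nat_lit 3, nat_lit 2, nat_lit 3, nat_lit 0, nat_lit 1, nat_lit 0, nat_lit 2, nat_lit 0, nat_lit 2, nat_lit 1, nat_lit 2, nat_lit 0, nat_lit 2, nat_lit 1, nat_lit 0, nat_lit 3, nat_lit 1, nat_lit 3])) (TL.node (TL.leaf [nat_lit 18438, nat_lit 2, nat_lit 0, nat_lit 2, nat_lit 1, nat_lit 2, nat_lit 0, nat_lit 2, nat_lit 0, nat_lit 1, nat_lit 0, nat_lit 3, nat_lit 2, nat_lit 3, nat_lit 1, nat_lit 3, nat_lit 2, nat_lit 3, nat_lit 1, nat_lit 3, nat_lit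 0, nat_lit 1]) (TL.leaf [nat_lit 22560, nat_lit 1, nat_lit 0, nat_lit 2, nat_lit 3, nat_lit 1, nat_lit 3, nat_lit 0, nat_lit 3, nat_lit 1, nat_lit 2, nat_lit 0, nat_lit 1, nat_lit 0, nat_lit 2, nat_lit 1, nat_lit 0, nat_lit 2, nat_lit 3, nat_lit 0, nat_lit 3, nat_lit 0, nat_lit 2, nat_lit 3])))) (TL.node (TL.node (TL.node (TL.leaf [nat_lit 4097, nat_lit 1, nat_lit 2, nat_lit 1, nat_lit 2, nat_lit 1, nat_lit 2]) (TL.leaf [nat_lit 12291, nat_lit 0, nat_lit 2, nat_lit 1, nat_lit 0, nat_lit 3, nat_lit 0, nat_lit 1, nat_lit 2, nat_lit 0, nat_lit 3])) (TL.node (TL.leaf [nat_lit 20500, nat_lit 3, nat_lit 0, nat_lit 1, nat_lit 0, nat_lit 3, nat_lit 0, nat_lit 1, nat_lit 3, nat_lit 0, nat_lit 3, nat_lit 2, nat_lit 0, nat_lit 2, nat_lit 0, nat_lit 1, nat_lit 2, nat_lit 1, nat_lit 3, nat_lit 0]) (TL.leaf [nat_lit 20483, nat_lit 0, nat_lit 3, nat_lit 1, nat_lit 0, nat_lit 3, nat_lit 0, nat_lit 1, nat_lit 0, nat_lit 3, nat_lit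 0, nat_lit 3, nat_lit 1, nat_lit 2, nat_lit 1, nat_lit 0, nat_lit 2, nat_lit 0, nat_lit 2, nat_lit 3]))) (TL.node (TL.node (TL.leaf [nat_lit 18437, nat_lit 3, nat_lit 2, nat_lit 3, nat_lit 1, nat_lit 3, nat_lit 2, nat_lit 3, nat_lit 0, nat_lit 1, nat_lit 0, nat_lit 2, nat_lit 0, nat_lit 2, nat_lit 1, nat_lit 2, nat_lit 0, nat_lit 2, nat_lit 1, nat_lit 0, nat_lit 3, nat_lit 1]) (TL.leaf [nat_lit 20518, nat_lit 3, nat_lit 2, nat_lit 0, nat_lit 2, nat_lit 0, nat_lit 1, nat_lit 2, nat_lit 1, nat_lit 3, nat_lit 0, nat_lit 3, nat_lit 0, nat_lit 1, nat_lit 0, nat_lit 3, nat_lit 0, nat_lit 1, nat_lit 3, nat_lit 0])) (TL.node (TL.leaf [nat_lit 6153, nat_lit 0, nat_lit 2, nat_lit 0, nat_lit 1, nat_lit 2, nat_lit 0, nat_lit 2, nat_lit 1, nat_lit 0, nat_lit 2, nat_lit 0, nat_lit 1, nat_lit 2, nat_lit 0, nat_lit 2, nat_lit 1]) (TL.leaf [nat_lit 20504, nat_lit 1, nat_lit 0, nat_lit 3, nat_lit 0, nat_lit 1, nat_lit 3, nat_lit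 0, nat_lit 3, nat_lit 2, nat_lit 0, nat_lit 2, nat_lit 0, nat_lit 1, nat_lit 2, nat_lit 1, nat_lit 3, nat_lit 0, nat_lit 3, nat_lit 0])))))) (TL.node (TL.node (TL.node (TL.node (TL.node (TL.leaf [nat_lit 14341, nat_lit 2, nat_lit 1, nat_lit 3, nat_lit 1, nat_lit 2, nat_lit 1, nat_lit 3, nat_lit 1]) (TL.leaf [nat_lit 20481, nat_lit 3, nat_lit 0, nat_lit 3, nat_lit 1, nat_lit 0, nat_lit 3, nat_lit 0, nat_lit 1, nat_lit 0, nat_lit 3, nat_lit 0, nat_lit 3, nat_lit 1, nat_lit 2, nat_lit 1, nat_lit 0, nat_lit 2, nat_lit 0, nat_lit 2])) (TL.node (TL.leaf [nat_lit 20496, nat_lit 3, nat_lit 0, nat_lit 3, nat_lit 0, nat_lit 1, nat_lit 0, nat_lit 3, nat_lit 0, nat_lit 1, nat_lit 3, nat_lit 0, nat_lit 3, nat_lit 2, nat_lit 0, nat_lit 2, nat_lit 0, nat_lit 1, nat_lit 2, nat_lit 1]) (TL.leaf [nat_lit 20517, nat_lit 2, nat_lit 3, nat_lit 0, nat_lit 3, nat_lit 1, nat_lit 0, nat_lit 3, nat_lit 0, nat_lit 1, nat_lit 0, nat_lit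 3, nat_lit 0, nat_lit 3, nat_lit 1, nat_lit 2, nat_lit 1, nat_lit 0, nat_lit 2, nat_lit 0]))) (TL.node (TL.node (TL.leaf [nat_lit 2051, nat_lit 2, nat_lit 0, nat_lit 2, nat_lit 0, nat_lit 2, nat_lit 0, nat_lit 2, nat_lit 0, nat_lit 2, nat_lit 0]) (TL.leaf [nat_lit 20516, nat_lit 0, nat_lit 3, nat_lit 2, nat_lit 0, nat_lit 2, nat_lit 0, nat_lit 1, nat_lit 2, nat_lit 1, nat_lit 3, nat_lit 0, nat_lit 3, nat_lit 0, nat_lit 1, nat_lit 0, nat_lit 3, nat_lit 0, nat_lit 1, nat_lit 3])) (TL.node (TL.leaf [nat_lit 12299, nat_lit 3, nat_lit 0, nat_lit 1, nat_lit 2, nat_lit 0, nat_lit 3, nat_lit 0, nat_lit 2, nat_lit 1, nat_lit 0]) (TL.leaf [nat_lit 20514, nat_lit 3, nat_lit 0, nat_lit 3, nat_lit 2, nat_lit 0, nat_lit 2, nat_lit 0, nat_lit 1, nat_lit 2, nat_lit 1, nat_lit 3, nat_lit 0, nat_lit 3, nat_lit 0, nat_lit 1, nat_lit 0, nat_lit 3, nat_lit 0, nat_lit 1])))) (TL.node (TL.node (TL.node (TL.leaf [nat_lit 22562, nat_lit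 0, nat_lit 2, nat_lit 3, nat_lit 1, nat_lit 3, nat_lit 0, nat_lit 3, nat_lit 1, nat_lit 2, nat_lit 0, nat_lit 1, nat_lit 0, nat_lit 2, nat_lit 1, nat_lit 0, nat_lit 2, nat_lit 3, nat_lit 0, nat_lit 3, nat_lit 0, nat_lit 2, nat_lit 3, nat_lit 1]) (TL.leaf [nat_lit 18433, nat_lit 3, nat_lit 1, nat_lit 3, nat_lit 2, nat_lit 3, nat_lit 1, nat_lit 3, nat_lit 2, nat_lit 3, nat_lit 0, nat_lit 1, nat_lit 0, nat_lit 2, nat_lit 0, nat_lit 2, nat_lit 1, nat_lit 2, nat_lit 0, nat_lit 2, nat_lit 1, nat_lit 0])) (TL.node (TL.leaf [nat_lit 20502, nat_lit 0, nat_lit 1, nat_lit 0, nat_lit 3, nat_lit 0, nat_lit 1, nat_lit 3, nat_lit 0, nat_lit 3, nat_lit 2, nat_lit 0, nat_lit 2, nat_lit 0, nat_lit 1, nat_lit 2, nat_lit 1, nat_lit 3, nat_lit 0, nat_lit 3]) (TL.leaf [nat_lit 8196, nat_lit 1, nat_lit 0, nat_lit 2, nat_lit 0, nat_lit 1, nat_lit 2, nat_lit 0, nat_lit 1, nat_lit 0, nat_lit 2, nat_lit 0, nat_lit 1, nat_lit 2, nat_lit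 0, nat_lit 1, nat_lit 0, nat_lit 2, nat_lit 0, nat_lit 1, nat_lit 2, nat_lit 0]))) (TL.node (TL.node (TL.leaf [nat_lit 10243, nat_lit 3, nat_lit 2, nat_lit 3, nat_lit 2, nat_lit 3, nat_lit 2, nat_lit 3, nat_lit 2, nat_lit 3, nat_lit 2]) (TL.leaf [nat_lit 20515, nat_lit 0, nat_lit 2, nat_lit 3, nat_lit 0, nat_lit 3, nat_lit 1, nat_lit 0, nat_lit 3, nat_lit 0, nat_lit 1, nat_lit 0, nat_lit 3, nat_lit 0, nat_lit 3, nat_lit 1, nat_lit 2, nat_lit 1, nat_lit 0, nat_lit 2])) (TL.node (TL.leaf [nat_lit 10241, nat_lit 2, nat_lit 3, nat_lit 2, nat_lit 3, nat_lit 2, nat_lit 3, nat_lit 2, nat_lit 3, nat_lit 2, nat_lit 3]) (TL.leaf [nat_lit 22545, nat_lit 3, nat_lit 2, nat_lit 0, nat_lit 3, nat_lit 0, nat_lit 3, nat_lit 2, nat_lit 0, nat_lit 1, nat_lit 2, nat_lit 0, nat_lit 1, nat_lit 0, nat_lit 2, nat_lit 1, nat_lit 3, nat_lit 0, nat_lit 3, nat_lit 1, nat_lit 3, nat_lit 2, nat_lit 0, nat_lit 1]))))) (TL.node (TL.node (TL.node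 (TL.node (TL.leaf [nat_lit 16387, nat_lit 2, nat_lit 0, nat_lit 2, nat_lit 3, nat_lit 2, nat_lit 0, nat_lit 2, nat_lit 3]) (TL.leaf [nat_lit 18441, nat_lit 3, nat_lit 1, nat_lit 3, nat_lit 2, nat_lit 3, nat_lit 0, nat_lit 1, nat_lit 0, nat_lit 2, nat_lit 0, nat_lit 2, nat_lit 1, nat_lit 2, nat_lit 0, nat_lit 2, nat_lit 1, nat_lit 0, nat_lit 3, nat_lit 1, nat_lit 3, nat_lit 2])) (TL.node (TL.leaf [nat_lit 16385, nat_lit 3, nat_lit 2, nat_lit 0, nat_lit 2, nat_lit 3, nat_lit 2, nat_lit 0, nat_lit 2]) (TL.leaf [nat_lit 20487, nat_lit 1, nat_lit 0, nat_lit 3, nat_lit 0, nat_lit 1, nat_lit 0, nat_lit 3, nat_lit 0, nat_lit 3, nat_lit 1, nat_lit 2, nat_lit 1, nat_lit 0, nat_lit 2, nat_lit 0, nat_lit 2, nat_lit 3, nat_lit 0, nat_lit 3]))) (TL.node (TL.node (TL.leaf [nat_lit 12295, nat_lit 1, nat_lit 0, nat_lit 3, nat_lit 0, nat_lit 1, nat_lit 2, nat_lit 0, nat_lit 3, nat_lit 0, nat_lit 2]) (TL.leaf [nat_lit 22535, nat_lit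 1, nat_lit 3, nat_lit 2, nat_lit 0, nat_lit 1, nat_lit 3, nat_lit 2, nat_lit 0, nat_lit 3, nat_lit 0, nat_lit 3, nat_lit 2, nat_lit 0, nat_lit 1, nat_lit 2, nat_lit 0, nat_lit 1, nat_lit 0, nat_lit 2, nat_lit 1, nat_lit 3, nat_lit 0, nat_lit 3])) (TL.node (TL.leaf [nat_lit 22556, nat_lit 2, nat_lit 3, nat_lit 1, nat_lit 0, nat_lit 2, nat_lit 3, nat_lit 1, nat_lit 3, nat_lit 0, nat_lit 3, nat_lit 1, nat_lit 2, nat_lit 0, nat_lit 1, nat_lit 0, nat_lit 2, nat_lit 1, nat_lit 0, nat_lit 2, nat_lit 3, nat_lit 0, nat_lit 3, nat_lit 0]) (TL.leaf [nat_lit 20501, nat_lit 0, nat_lit 3, nat_lit 1, nat_lit 2, nat_lit 1, nat_lit 0, nat_lit 2, nat_lit 0, nat_lit 2, nat_lit 3, nat_lit 0, nat_lit 3, nat_lit 1, nat_lit 0, nat_lit 3, nat_lit 0, nat_lit 1, nat_lit 0, nat_lit 3])))) (TL.node (TL.node (TL.node (TL.leaf [nat_lit 4099, nat_lit 2, nat_lit 1, nat_lit 2, nat_lit 1, nat_lit 2, nat_lit 1]) (TL.leaf [nat_lit 12301, nat_lit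 0, nat_lit 1, nat_lit 2, nat_lit 0, nat_lit 3, nat_lit 0, nat_lit 2, nat_lit 1, nat_lit 0, nat_lit 3])) (TL.node (TL.leaf [nat_lit 8193, nat_lit 2, nat_lit 1, nat_lit 0, nat_lit 2, nat_lit 0, nat_lit 1, nat_lit 0, nat_lit 2, nat_lit 1, nat_lit 0, nat_lit 2, nat_lit 0, nat_lit 1, nat_lit 0, nat_lit 2, nat_lit 1, nat_lit 0, nat_lit 2, nat_lit 0, nat_lit 1, nat_lit 0]) (TL.leaf [nat_lit 18443, nat_lit 1, nat_lit 3, nat_lit 2, nat_lit 3, nat_lit 0, nat_lit 1, nat_lit 0, nat_lit 2, nat_lit 0, nat_lit 2, nat_lit 1, nat_lit 2, nat_lit 0, nat_lit 2, nat_lit 1, nat_lit 0, nat_lit 3, nat_lit 1, nat_lit 3, nat_lit 2, nat_lit 3]))) (TL.node (TL.node (TL.leaf [nat_lit 1, nat_lit 0, nat_lit 1, nat_lit 0, nat_lit 1, nat_lit 0, nat_lit 1]) (TL.leaf [nat_lit 18435, nat_lit 1, nat_lit 3, nat_lit 2, nat_lit 3, nat_lit 1, nat_lit 3, nat_lit 2, nat_lit 3, nat_lit 0, nat_lit 1, nat_lit 0, nat_lit 2, nat_lit 0, nat_lit 2, nat_lit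 1, nat_lit 2, nat_lit 0, nat_lit 2, nat_lit 1, nat_lit 0, nat_lit 3])) (TL.node (TL.leaf [nat_lit 6145, nat_lit 2, nat_lit 0, nat_lit 2, nat_lit 1, nat_lit 0, nat_lit 2, nat_lit 0, nat_lit 1, nat_lit 2, nat_lit 0, nat_lit 2, nat_lit 1, nat_lit 0, nat_lit 2, nat_lit 0, nat_lit 1]) (TL.leaf [nat_lit 6157, nat_lit 0, nat_lit 1, nat_lit 2, nat_lit 0, nat_lit 2, nat_lit 1, nat_lit 0, nat_lit 2, nat_lit 0, nat_lit 1, nat_lit 2, nat_lit 0, nat_lit 2, nat_lit 1, nat_lit 0, nat_lit 2])))))))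
noncomputable def W (i : ℕ) : List ℕ := TL.get W_t i
def WA_t : TL := (TL.leaf [nat_lit 0])
noncomputable def WA (i : ℕ) : List ℕ := TL.get WA_t i
noncomputable def row : ℕ → ℕ := hRow (nat_lit 265) (nat_lit 4) (nat_lit 3) (nat_lit 512) (nat_lit 128) (nat_lit 65536) (nat_lit 8192) (nat_lit 8192) (nat_lit 0) E X Pa (fun j => j) (wfun (nat_lit 64) W_t)
noncomputable def aux : ℕ → ℕ := hAux (nat_lit 266) (nat_lit 4) (nat_lit 512) (nat_lit 65536) (nat_lit 8192) (nat_lit 2) (nat_lit 2) (nat_lit 8192) (nat_lit 0) E X J Pa (fun j => j) WA_t.get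
theorem r0 : Nat.beq (rng row (nat_lit 0) (nat_lit 266)) (nat_lit 0) = true := by decide +kernel
theorem rows : ∀ i < 266, row i = 0 := by
  have h := zero_lt_zero row
  have h := zero_lt_add (a := (nat_lit 0)) (n := (nat_lit 266)) (b := (nat_lit 266)) h r0 rfl
  exact h
theorem auxs : ∀ i < 0, aux i = 0 := by
  have h := zero_lt_zero aux
  exact h
theorem closes.{u} : ClosesT.{u} (fun j => j) rels 4 3 266 T :=
  hc_closes (N1 := (nat_lit 265)) rfl T_eq (by decide +kernel) rows auxs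
theorem T_inv : ∀ c < 266, ∀ j < 4, T j c < 266 ∧ T j (T j c) = c := 
  hc_inv (inv := (fun j => j)) (N1 := (nat_lit 265)) rfl T_eq rows
end L3

def rels : List (List ℕ) := [[nat_lit 0, nat_lit 1, nat_lit 0, nat_lit 1, nat_lit 0, nat_lit 1], [nat_lit 0, nat_lit 2, nat_lit 0, nat_lit 2, nat_lit 0, nat_lit 2, nat_lit 0, nat_lit 2, nat_lit 0, nat_lit 2], [nat_lit 1, nat_lit 2, nat_lit 1, nat_lit 2, nat_lit 1, nat_lit 2], [nat_lit 2, nat_lit 0, nat_lit 2, nat_lit 1, nat_lit 0, nat_lit 2, nat_lit 0, nat_lit 1, nat_lit 2, nat_lit 0, nat_lit 2, nat_lit 1, nat_lit 0, nat_lit 2, nat_lit 0, nat_lit 1], [nat_lit 2, nat_lit 1, nat_lit 0, nat_lit 2, nat_lit 0, nat_lit 1, nat_lit 0, nat_lit 2, nat_lit 1, nat_lit 0, nat_lit 2, nat_lit 0, nat_lit 1, nat_lit 0, nat_lit 2, nat_lit 1, nat_lit 0, nat_lit 2, nat_lit 0, nat_lit 1, nat_lit 0], [nat_lit 2, nat_lit 3, nat_lit 2, nat_lit 3, nat_lit 2, nat_lit 3, nat_lit 2, nat_lit 3,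 nat_lit 2, nat_lit 3], [nat_lit 3, nat_lit 0, nat_lit 2, nat_lit 1, nat_lit 0, nat_lit 3, nat_lit 0, nat_lit 1, nat_lit 2, nat_lit 0], [nat_lit 3, nat_lit 1, nat_lit 2, nat_lit 1, nat_lit 3, nat_lit 1, nat_lit 2, nat_lit 1], [nat_lit 3, nat_lit 2, nat_lit 0, nat_lit 2, nat_lit 3, nat_lit 2, nat_lit 0, nat_lit 2], [nat_lit 3, nat_lit 1, nat_lit 3, nat_lit 2, nat_lit 3, nat_lit 1, nat_lit 3, nat_lit 2, nat_lit 3, nat_lit 0, nat_lit 1, nat_lit 0, nat_lit 2, nat_lit 0, nat_lit 2, nat_lit 1, nat_lit 2, nat_lit 0, nat_lit 2, nat_lit 1, nat_lit 0], [nat_lit 3, nat_lit 0, nat_lit 3, nat_lit 1, nat_lit 0, nat_lit 3, nat_lit 0, nat_lit 1, nat_lit 0, nat_lit 3, nat_lit 0, nat_lit 3, nat_lit 1, nat_lit 2, nat_lit 1, nat_lit 0, nat_lit 2, nat_lit 0, nat_lit 2], [nat_lit 3, nat_lit 0, nat_lit 3, nat_lit 1, nat_lit 3, nat_lit 2, nat_lit 0, nat_lit 1, nat_lit 3, nat_lit 2, nat_lit 0, nat_lit 3, nat_lit 0, nat_lit 3, nat_lit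 2, nat_lit 0, nat_lit 1, nat_lit 2, nat_lit 0, nat_lit 1, nat_lit 0, nat_lit 2, nat_lit 1]]
theorem ub2 {Γ : Type} [Group Γ] {g : ℕ → Γ} (h1 : InvOK g (fun j => j) 4) (h2 : ∀ w ∈ rels, ev g w = 1) : CardLE (gen g 2) 6 :=
  tw h1 h2 L1.closes (by decide +kernel) (cardLE_gen_zero g)
theorem ub3 {Γ : Type} [Group Γ] {g : ℕ → Γ} (h1 : InvOK g (fun j => j) 4) (h2 : ∀ w ∈ rels, ev g w = 1) : CardLE (gen g 3) 660 :=
  tw h1 h2 L2.closes (by decide +kernel) (ub2 h1 h2)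
theorem ub4 {Γ : Type} [Group Γ] {g : ℕ → Γ} (h1 : InvOK g (fun j => j) 4) (h2 : ∀ w ∈ rels, ev g w = 1) : CardLE (gen g 4) 175560 :=
  tw h1 h2 L3.closes (by decide +kernel) (ub3 h1 h2)

end Cfsg.Agent.Ct.J1
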